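import Groth.Agent.Lib.CatCM.Basic
import Groth.Agent.Lib.AusBuch.Basic
import Groth.Agent.Lib.DCxRing.Regular
import Groth.Agent.Lib.Faltings.Transfer
import Mathlib

/-!
# Heights in quotients of Cohen–Macaulay rings; the Cohen–Macaulay locus
-/

universe u

open IsLocalRing CategoryTheory TensorProduct

namespace GrothLib.CMLocus

variable {P S : Type u} [CommRing P] [CommRing S] [IsNoetherianRing P] (π : P →+* S)

theorem add_height_le (hπ : Function.Surjective π) (q : Ideal S) [q.IsPrime] (c : ℕ)
    (hc : ∀ p : Ideal P, p.IsPrime → RingHom.ker π ≤ p → p ≤ q.comap π → (c : ℕ∞) ≤ p.height) :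
    (c : ℕ∞) + q.height ≤ (q.comap π).height := by
  haveI : IsNoetherianRing S := isNoetherianRing_of_surjective P S π hπ
  suffices h : ∀ (m : ℕ) (q' : Ideal S), q'.IsPrime → q' ≤ q → (m : ℕ∞) ≤ q'.height →
      ((c + m : ℕ) : ℕ∞) ≤ (q'.comap π).height by
    obtain ⟨m, hm⟩ := ENat.ne_top_iff_exists.1 (Ideal.height_ne_top (I := q) Ideal.IsPrime.ne_top')
    rw [← hm]
    exact_mod_cast h m q inferInstance le_rfl hm.le
  intro m
  induction m with
  | zero =>
    intro q' hq' hle _
    simpa using hc (q'.comap π) (Ideal.IsPrime.comap π) (fun x hx => by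
      rw [Ideal.mem_comap, (RingHom.mem_ker).1 hx]; exact q'.zero_mem) (Ideal.comap_mono hle)
  | succ m ih =>
    intro q' hq' hle hm
    haveI := hq'
    obtain ⟨q'', hq'', hlt, hm'⟩ : ∃ q'' : Ideal S, q''.IsPrime ∧ q'' < q' ∧ (m : ℕ∞) ≤ q''.height := by
      by_contra hcon
      push Not at hcon
      have := hm.trans (Ideal.height_le_iff.2 hcon)
      exact Nat.not_succ_le_self m (by exact_mod_cast this)
    have h1 := ih q'' hq'' (hlt.le.trans hle) hm'
    haveI := hq''
    have h2 : (q''.comap π).height < (q'.comap π).height :=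
      Ideal.height_strict_mono_of_isPrime
        (lt_of_le_of_ne (Ideal.comap_mono hlt.le) fun h => hlt.ne (Ideal.comap_injective_of_surjective π hπ h))
    exact (Order.add_one_le_of_lt (h1.trans_lt h2)).trans' (by push_cast; rw [add_assoc])

set_option maxHeartbeats 400000 in
theorem height_le_add [LocCoh.IsCohenMacaulayRing P] (hπ : Function.Surjective π) (q : Ideal S) [q.IsPrime]
    (p : Ideal P) [p.IsPrime] (hker : RingHom.ker π ≤ p) (hp : p ≤ q.comap π) :
    (q.comap π).height ≤ p.height + q.height := by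
  haveI : IsNoetherianRing S := isNoetherianRing_of_surjective P S π hπ
  obtain ⟨n, hn⟩ := ENat.ne_top_iff_exists.1 (Ideal.height_ne_top (I := q.comap π) Ideal.IsPrime.ne_top')
  induction n using Nat.strong_induction_on generalizing q with
  | _ n ih =>
    rcases eq_or_lt_of_le hp with rfl | hlt
    · exact le_self_add
    set C : Set (Ideal P) := {r : Ideal P | r.IsPrime ∧ p ≤ r ∧ r < q.comap π} with hC
    obtain ⟨r, hrC, hmax⟩ := wellFounded_gt.has_min C ⟨p, inferInstance, le_rfl, hlt⟩
    obtain ⟨hr, hpr, hrq⟩ : r.IsPrime ∧ p ≤ r ∧ r < q.comap π := hrC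
    haveI := hr
    have hcov : (⟨r, hr⟩ : PrimeSpectrum P) ⋖ ⟨q.comap π, inferInstance⟩ :=
      ⟨hrq, fun b hb1 hb2 => hmax b.asIdeal ⟨b.2, hpr.trans hb1.le, hb2⟩ hb1⟩
    have h1 := GrothLib.CatCM.height_covBy (S := P) (p := ⟨r, hr⟩) (q := ⟨q.comap π, inferInstance⟩) hcov
    dsimp only at h1
    have hkr : RingHom.ker π ≤ r := hker.trans hpr
    haveI : (r.map π).IsPrime := Ideal.map_isPrime_of_surjective hπ hkr
    have hrc : (r.map π).comap π = r := by
      rw [Ideal.comap_map_of_surjective π hπ, ← RingHom.ker_eq_comap_bot, sup_eq_left.2 hkr]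
    have hlt' : r.map π < q := by
      refine lt_of_le_of_ne (Ideal.map_le_iff_le_comap.2 hrq.le) fun h => hrq.ne ?_
      rw [← hrc, h]
    obtain ⟨m, hm⟩ := ENat.ne_top_iff_exists.1 (Ideal.height_ne_top (I := r) Ideal.IsPrime.ne_top')
    have hmn : m < n := by
      rw [← hn, ← hm] at h1
      have : n = m + 1 := by exact_mod_cast h1
      omega
    have h2 := ih m hmn (r.map π) (by rw [hrc]; exact hpr) (by rw [hrc]; exact hm)
    rw [hrc] at h2
    calc (q.comap π).height = r.height + 1 := h1
      _ ≤ p.height + (r.map π).height + 1 := add_le_add h2 le_rfl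
      _ = p.height + ((r.map π).height + 1) := add_assoc _ _ _
      _ ≤ p.height + q.height := add_le_add le_rfl (Order.add_one_le_of_lt (Ideal.height_strict_mono_of_isPrime hlt'))

theorem isDepth_congr {R : Type u} [CommRing R] [IsLocalRing R] {M N : Type u} [AddCommGroup M] [Module R M]
    [AddCommGroup N] [Module R N] (e : M ≃ₗ[R] N) {d : ℕ} (h : GrothLib.AusBuch.IsDepth R M d) :
    GrothLib.AusBuch.IsDepth R N d :=
  ⟨fun i hi => GrothLib.AusBuch.van_of_retract R e.symm.toLinearMap e.toLinearMap e.apply_symm_apply (h.1 i hi),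
    fun hv => h.2 (GrothLib.AusBuch.van_of_retract R e.toLinearMap e.symm.toLinearMap e.symm_apply_apply hv)⟩

/-- Depth of a local ring of a quotient of a regular ring in terms of a projective dimension upstairs. -/
theorem exists_depth_atPrime [IsRegularRing P] [Algebra P S] (hπ : Function.Surjective (algebraMap P S))
    (q : Ideal S) [q.IsPrime] :
    ∃ e d : ℕ,
      GrothLib.Serre.PdLE (Localization.AtPrime (q.comap (algebraMap P S)))
        (Localization.AtPrime (q.comap (algebraMap P S)) ⊗[P] S) e ∧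
      (∀ e', GrothLib.Serre.PdLE (Localization.AtPrime (q.comap (algebraMap P S)))
        (Localization.AtPrime (q.comap (algebraMap P S)) ⊗[P] S) e' → e ≤ e') ∧
      LocCoh.depth (Localization.AtPrime q) (Localization.AtPrime q) = d ∧
      (q.comap (algebraMap P S)).height = ((d + e : ℕ) : ℕ∞) := by
  classical
  haveI : IsNoetherianRing S := isNoetherianRing_of_surjective P S (algebraMap P S) hπ
  let Q := q.comap (algebraMap P S)
  let R := Localization.AtPrime Q
  let T := Localization.AtPrime q
  haveI : IsRegularLocalRing R := IsRegularRing.isRegularLocalRing_localization Q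
  haveI : IsNoetherianRing T := IsLocalization.isNoetherianRing q.primeCompl _ inferInstance
  haveI : LocCoh.IsCohenMacaulayLocalRing R :=
    (GrothLib.CatCM.isCohenMacaulayRing_of_isRegularRing P).isCohenMacaulayLocalRing_localization Q
  let φ : R →+* T := Localization.localRingHom Q q (algebraMap P S) rfl
  letI : Algebra R T := φ.toAlgebra
  haveI : IsScalarTower P R T := IsScalarTower.of_algebraMap_eq fun x => by
    show algebraMap P T x = φ (algebraMap P R x)
    rw [Localization.localRingHom_to_map, ← IsScalarTower.algebraMap_apply]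
  have hφ : Function.Surjective (algebraMap R T) := RingHom.surjective_localRingHom_of_surjective (algebraMap P S) hπ q
  have hM : Algebra.algebraMapSubmonoid S Q.primeCompl = q.primeCompl := by
    ext x
    constructor
    · rintro ⟨y, hy, rfl⟩; exact hy
    · intro hx
      obtain ⟨y, rfl⟩ := hπ x
      exact ⟨y, hx, rfl⟩
  haveI : IsLocalization (Algebra.algebraMapSubmonoid S Q.primeCompl) T := by rw [hM]; infer_instance
  haveI : IsLocalizedModule Q.primeCompl (IsScalarTower.toAlgHom P S T).toLinearMap :=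
    (isLocalizedModule_iff_isLocalization).2 inferInstance
  let ε : R ⊗[P] S ≃ₗ[R] T := ((isLocalizedModule_iff_isBaseChange Q.primeCompl R (IsScalarTower.toAlgHom P S T).toLinearMap).1 inferInstance).equiv
  haveI : Module.Finite P S := Module.Finite.of_surjective (Algebra.linearMap P S) hπ
  haveI : Nontrivial (R ⊗[P] S) := ε.toEquiv.nontrivial
  obtain ⟨D, hD⟩ : ∃ D : ℕ, ringKrullDim R = D := ⟨_, IsRegularLocalRing.spanFinrank_maximalIdeal.symm⟩
  have hex : ∃ e, GrothLib.Serre.PdLE R (R ⊗[P] S) e :=
    ⟨D, GrothLib.Serre.pdLE_of_isRegularLocalRing R D hD _⟩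
  have hnlt : ¬ HasProjectiveDimensionLT (ModuleCat.of R (R ⊗[P] S)) (Nat.find hex) := by
    intro h
    rcases Nat.eq_zero_or_pos (Nat.find hex) with h0 | h0
    · rw [h0, hasProjectiveDimensionLT_zero_iff_isZero] at h
      exact not_subsingleton (R ⊗[P] S) (ModuleCat.subsingleton_of_isZero h)
    · refine Nat.find_min hex (Nat.sub_lt h0 one_pos) ?_
      show HasProjectiveDimensionLT _ (Nat.find hex - 1 + 1)
      rwa [Nat.sub_add_cancel (Nat.one_le_iff_ne_zero.2 h0.ne')]
  obtain ⟨d, hd, hde⟩ := GrothLib.AusBuch.exists_isDepth_of_pd R (Nat.find hex) (R ⊗[P] S) (Nat.find_spec hex) hnlt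
  refine ⟨Nat.find hex, d, Nat.find_spec hex, fun e' he' => Nat.find_min' hex he', ?_, ?_⟩
  · haveI : Module.Finite R T := Module.Finite.of_surjective (Algebra.linearMap R T) hφ
    obtain ⟨d', hd', hd''⟩ := GrothLib.AusBuch.isDepth_exists R (M := T)
    rw [GrothLib.Faltings.depth_eq_of_surjective hφ T] at hd'
    rw [hd', hd''.unique R (isDepth_congr ε hd)]
  · obtain ⟨r, hr, hr'⟩ := GrothLib.AusBuch.isDepth_exists R (M := R)
    have h1 := LocCoh.IsCohenMacaulayLocalRing.supportDim_eq_depth (R := R)
    rw [Module.supportDim_self_eq_ringKrullDim, IsLocalization.AtPrime.ringKrullDim_eq_height Q R, hr,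
      hr'.unique R hde] at h1
    exact WithBot.coe_inj.1 h1

/-- The Cohen–Macaulay locus of a quotient of a regular ring is open. -/
theorem isOpen_cmLocus [IsRegularRing P] [Algebra P S] (hπ : Function.Surjective (algebraMap P S)) :
    IsOpen {q : PrimeSpectrum S | LocCoh.IsCohenMacaulayLocalRing (Localization.AtPrime q.asIdeal)} := by
  classical
  haveI : IsNoetherianRing S := isNoetherianRing_of_surjective P S (algebraMap P S) hπ
  haveI : Module.Finite P S := Module.Finite.of_surjective (Algebra.linearMap P S) hπ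
  haveI : LocCoh.IsCohenMacaulayRing P := GrothLib.CatCM.isCohenMacaulayRing_of_isRegularRing P
  rw [isOpen_iff_forall_mem_open]
  intro q hq
  haveI : LocCoh.IsCohenMacaulayLocalRing (Localization.AtPrime q.asIdeal) := hq
  obtain ⟨c, d, hc, -, hd, hQ⟩ := exists_depth_atPrime hπ q.asIdeal
  have hqd : q.asIdeal.height = d := by
    have h1 := LocCoh.IsCohenMacaulayLocalRing.supportDim_eq_depth (R := Localization.AtPrime q.asIdeal)
    rw [Module.supportDim_self_eq_ringKrullDim, IsLocalization.AtPrime.ringKrullDim_eq_height q.asIdeal _, hd] at h1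
    exact WithBot.coe_inj.1 h1
  set bad := {p ∈ (RingHom.ker (algebraMap P S)).minimalPrimes | ¬ p ≤ q.asIdeal.comap (algebraMap P S)} with hbad
  have hfin : bad.Finite := (Ideal.finite_minimalPrimes_of_isNoetherianRing P _).subset fun p hp => hp.1
  set V := (PrimeSpectrum.comap (algebraMap P S) ⁻¹'
      {p : PrimeSpectrum P | GrothLib.Serre.PdLE (Localization.AtPrime p.asIdeal) (Localization.AtPrime p.asIdeal ⊗[P] S) c}) ∩
    (⋂ p ∈ bad, (PrimeSpectrum.zeroLocus ((p.map (algebraMap P S) : Ideal S) : Set S))ᶜ) with hV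
  refine ⟨V, ?_, IsOpen.inter ((GrothLib.DR.isOpen_pdLE_locus c S).preimage (PrimeSpectrum.continuous_comap _))
    (hfin.isOpen_biInter fun p _ => (PrimeSpectrum.isClosed_zeroLocus _).isOpen_compl), hc, ?_⟩
  · rintro q' ⟨hpd, hmin⟩
    show LocCoh.IsCohenMacaulayLocalRing (Localization.AtPrime q'.asIdeal)
    haveI : IsNoetherianRing (Localization.AtPrime q'.asIdeal) :=
      IsLocalization.isNoetherianRing q'.asIdeal.primeCompl _ inferInstance
    obtain ⟨e', d', -, hmin', hd', hQ'⟩ := exists_depth_atPrime hπ q'.asIdeal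
    have he' : e' ≤ c := hmin' c hpd
    have hcp : ∀ p : Ideal P, p.IsPrime → RingHom.ker (algebraMap P S) ≤ p →
        p ≤ q'.asIdeal.comap (algebraMap P S) → (c : ℕ∞) ≤ p.height := by
      intro p hp hker hple
      haveI := hp
      obtain ⟨p0, hp0, hp0p⟩ := Ideal.exists_minimalPrimes_le hker
      haveI := hp0.1.1
      refine le_trans ?_ (Ideal.height_mono hp0p)
      by_cases hin : p0 ≤ q.asIdeal.comap (algebraMap P S)
      · have h1 := height_le_add (algebraMap P S) hπ q.asIdeal p0 hp0.1.2 hin
        rw [hQ, hqd] at h1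
        obtain ⟨t, ht⟩ := ENat.ne_top_iff_exists.1 (Ideal.height_ne_top (I := p0) Ideal.IsPrime.ne_top')
        rw [← ht] at h1 ⊢
        have : d + c ≤ t + d := by exact_mod_cast h1
        exact_mod_cast (show c ≤ t by omega)
      · have h1 := Set.mem_iInter₂.1 hmin p0 ⟨hp0, hin⟩
        exact absurd (show p0.map (algebraMap P S) ≤ q'.asIdeal from
          Ideal.map_le_iff_le_comap.2 (hp0p.trans hple)) h1
    have h2 := add_height_le (algebraMap P S) hπ q'.asIdeal c hcp
    rw [hQ'] at h2
    have hle : q'.asIdeal.height ≤ d' := by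
      obtain ⟨t, ht⟩ := ENat.ne_top_iff_exists.1 (Ideal.height_ne_top (I := q'.asIdeal) Ideal.IsPrime.ne_top')
      rw [← ht] at h2 ⊢
      have : c + t ≤ d' + e' := by exact_mod_cast h2
      exact_mod_cast (show t ≤ d' by omega)
    refine ⟨le_antisymm ?_ (GrothLib.Depth.depth_le_supportDim _ _)⟩
    rw [Module.supportDim_self_eq_ringKrullDim, IsLocalization.AtPrime.ringKrullDim_eq_height q'.asIdeal _, hd']
    exact WithBot.coe_le_coe.2 hle
  · refine Set.mem_iInter₂.2 fun p hp hle => hp.2 (Ideal.map_le_iff_le_comap.1 hle)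

end GrothLib.CMLocus
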